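import Cfsg.Agent.FourRankOne.TwoGroup
import Cfsg.Agent.S0111
import Mathlib.GroupTheory.SpecificGroups.KleinFour

/-!
A perfect subgroup normalised by a four-group all of whose three involutions have centralisers
of 2-rank at most one in it has itself 2-rank at most one.
-/

set_option autoImplicit false

namespace Cfsg.Agent.FourRankOne

open Subgroup

variable {G : Type*} [Group G] [Finite G]

/-- Sylow conjugacy inside a subgroup `L`, for a 2-subgroup `P` of largest order. -/
theorem exists_conj_le (L P Q : Subgroup G) (hPL : P ≤ L) (hP : IsPGroup 2 P)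
    (hmax : ∀ R : Subgroup G, R ≤ L → IsPGroup 2 R → Nat.card R ≤ Nat.card P)
    (hQL : Q ≤ L) (hQ : IsPGroup 2 Q) :
    ∃ h ∈ L, ∀ x ∈ Q, h * x * h⁻¹ ∈ P := by
  obtain ⟨P', hP'⟩ := (hP.comap_subtype : IsPGroup 2 (P.subgroupOf L)).exists_le_sylow
  obtain ⟨Q', hQ'⟩ := (hQ.comap_subtype : IsPGroup 2 (Q.subgroupOf L)).exists_le_sylow
  have hle : P ≤ (P' : Subgroup L).map L.subtype := fun x hx => ⟨⟨x, hPL hx⟩, hP' hx, rfl⟩
  have heq : P = (P' : Subgroup L).map L.subtype :=
    eq_of_le_of_card_ge hle (hmax _ (map_subtype_le _) (P'.isPGroup'.map _))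
  obtain ⟨h, hh⟩ := MulAction.exists_smul_eq L Q' P'
  refine ⟨h, h.2, fun x hx => ?_⟩
  rw [heq]
  refine ⟨h * ⟨x, hQL hx⟩ * h⁻¹, ?_, rfl⟩
  rw [← hh]
  exact ⟨⟨x, hQL hx⟩, hQ' hx, rfl⟩

/-- If the elements of a four-group send `e` to `e` or `e'`, and those moving `e` send `e'` back,
then some involution of the four-group fixes `e`. -/
theorem exists_fix {U : Subgroup G} (hU : IsKleinFour U) (e e' : G)
    (h : ∀ u ∈ U, u * e * u⁻¹ = e ∨ u * e * u⁻¹ = e')
    (h' : ∀ u ∈ U, u * e * u⁻¹ = e' → u * e' * u⁻¹ = e) :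
    ∃ u ∈ U, u ≠ 1 ∧ u * e * u⁻¹ = e := by
  have h4 : Nat.card U = 4 := hU.card_four
  have : Nontrivial U := Finite.one_lt_card_iff_nontrivial.1 (by omega)
  obtain ⟨u, hu⟩ := exists_ne (1 : U)
  obtain ⟨v, hv1, hvu⟩ : ∃ v : U, v ≠ 1 ∧ v ≠ u := by
    by_contra! hcon
    have hsub : (Set.univ : Set U) ⊆ {1, u} := fun x _ => by
      by_cases hx : x = 1
      · exact Or.inl hx
      · exact Or.inr (hcon x hx)
    have := (Set.ncard_le_ncard hsub (Set.toFinite _)).trans (Set.ncard_insert_le _ _)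
    rw [Set.ncard_univ, h4, Set.ncard_singleton] at this
    omega
  by_cases hue : (u : G) * e * (u : G)⁻¹ = e
  · exact ⟨u, u.2, fun hh => hu (Subtype.ext hh), hue⟩
  by_cases hve : (v : G) * e * (v : G)⁻¹ = e
  · exact ⟨v, v.2, fun hh => hv1 (Subtype.ext hh), hve⟩
  refine ⟨u * v, mul_mem u.2 v.2, fun hh => ?_, ?_⟩
  · have : u * v = 1 := Subtype.ext hh
    have huu : u * u = 1 := by rw [← pow_two, ← hU.exponent_two, Monoid.pow_exponent_eq_one]
    exact hvu (mul_left_cancel (this.trans huu.symm))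
  · have hu' := (h u u.2).resolve_left hue
    have hv' := (h v v.2).resolve_left hve
    calc (u : G) * v * e * ((u : G) * v)⁻¹ = u * ((v : G) * e * (v : G)⁻¹) * (u : G)⁻¹ := by group
      _ = e := by rw [hv', h' u u.2 hu']

/-- An element of a cyclic 2-group of square not one has the elements of order four in its
cyclic subgroup. -/
theorem mem_zpowers_of_orderOf_four {F : Subgroup G} (hF : IsPGroup 2 F) [IsCyclic F] {X f : G}
    (hX : X ∈ F) (hf : f ∈ F) (hX4 : orderOf X = 4) (hf2 : f * f ≠ 1) : X ∈ zpowers f := by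
  obtain ⟨k, hk⟩ := IsPGroup.iff_orderOf.1 hF ⟨f, hf⟩
  rw [Subgroup.orderOf_mk] at hk
  have h4 : 4 ∣ orderOf f := by
    rw [hk]
    refine pow_dvd_pow 2 (?_ : 2 ≤ k)
    by_contra hk2
    have : orderOf f ∣ 2 := by rw [hk]; exact (pow_dvd_pow 2 (by omega : k ≤ 1))
    exact hf2 (by rw [← pow_two]; exact orderOf_dvd_iff_pow_eq_one.1 this)
  classical
  let _ := Fintype.ofFinite F
  have hsol := IsCyclic.card_pow_eq_one_le (α := F) (n := 4) (by norm_num)
  by_contra hXf
  -- the fourth roots of one in `zpowers f`, together with `X`, are too many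
  have hf4 : orderOf (f ^ (orderOf f / 4)) = 4 := by
    obtain ⟨c, hc⟩ := h4
    have := orderOf_pos f
    rw [orderOf_pow' _ (by omega), hc, Nat.mul_div_cancel_left _ (by norm_num),
      Nat.gcd_eq_right (dvd_mul_left c 4), Nat.mul_div_cancel _ (by omega)]
  set g := f ^ (orderOf f / 4) with hg
  have hgF : g ∈ F := pow_mem hf _
  let φ : Fin 4 → F := fun i => ⟨g, hgF⟩ ^ (i : ℕ)
  have hφ : Function.Injective φ := fun i j hij => by
    apply Fin.ext
    have h := pow_inj_mod.1 hij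
    rwa [Subgroup.orderOf_mk, hf4, Nat.mod_eq_of_lt i.2, Nat.mod_eq_of_lt j.2] at h
  have hXim : (⟨X, hX⟩ : F) ∉ Finset.univ.image φ := by
    rintro hmem
    obtain ⟨i, -, hi⟩ := Finset.mem_image.1 hmem
    refine hXf ?_
    have := congrArg Subtype.val hi
    simp only [φ, SubmonoidClass.coe_pow] at this
    rw [← this, hg]
    exact pow_mem (pow_mem (mem_zpowers f) _) _
  have hsub : insert (⟨X, hX⟩ : F) (Finset.univ.image φ) ⊆
      (Finset.univ.filter fun a : F => a ^ 4 = 1) := by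
    intro a ha
    simp only [Finset.mem_insert, Finset.mem_image, Finset.mem_filter, Finset.mem_univ,
      true_and] at ha ⊢
    rcases ha with rfl | ⟨i, rfl⟩
    · apply Subtype.ext
      rw [SubmonoidClass.coe_pow, ← hX4]
      exact pow_orderOf_eq_one X
    · simp only [φ]
      rw [← pow_mul, mul_comm, pow_mul]
      have : (⟨g, hgF⟩ : F) ^ 4 = 1 := Subtype.ext (by
        rw [SubmonoidClass.coe_pow, ← hf4]; exact pow_orderOf_eq_one g)
      rw [this, one_pow]
  have := (Finset.card_le_card hsub).trans hsol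
  rw [Finset.card_insert_of_notMem hXim, Finset.card_image_of_injective _ hφ, Finset.card_univ,
    Fintype.card_fin] at this
  omega

theorem sq_eq_one_cases {F : Subgroup G} [IsCyclic F] {z f : G} (hz : z ∈ F) (hf : f ∈ F)
    (hz2 : z * z = 1) (hz1 : z ≠ 1) (hf2 : f * f = 1) : f = 1 ∨ f = z := by
  classical
  let _ := Fintype.ofFinite F
  have hsol := IsCyclic.card_pow_eq_one_le (α := F) (n := 2) (by norm_num)
  by_contra! h
  have hsub : ({1, ⟨z, hz⟩, ⟨f, hf⟩} : Finset F) ⊆ Finset.univ.filter fun a : F => a ^ 2 = 1 := by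
    intro a ha
    simp only [Finset.mem_insert, Finset.mem_singleton] at ha
    simp only [Finset.mem_filter, Finset.mem_univ, true_and, pow_two]
    rcases ha with rfl | rfl | rfl
    · exact one_mul 1
    · exact Subtype.ext hz2
    · exact Subtype.ext hf2
  have := (Finset.card_le_card hsub).trans hsol
  rw [Finset.card_insert_of_notMem (by simp [Subtype.ext_iff, hz1.symm, h.1.symm]),
    Finset.card_pair (fun e => h.2 (congrArg Subtype.val e).symm)] at this
  omega

/-- Sylow intersect a normal subgroup. -/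
theorem exists_sylow_inter (A U : Subgroup G) (hUA : U ≤ normalizer (A : Set G))
    (hU : IsPGroup 2 U) :
    ∃ T : Subgroup G, IsPGroup 2 T ∧ U ≤ T ∧ T ≤ normalizer (A : Set G) ∧
      ∀ Q : Subgroup G, Q ≤ A → IsPGroup 2 Q → ∃ a : G, ∀ x ∈ Q, a * x * a⁻¹ ∈ T ⊓ A := by
  obtain ⟨T', hT'⟩ := (hU.comap_subtype : IsPGroup 2 (U.subgroupOf (A ⊔ U))).exists_le_sylow
  have hN : A ⊔ U ≤ normalizer (A : Set G) := sup_le le_normalizer hUA
  refine ⟨(T' : Subgroup ↥(A ⊔ U)).map (A ⊔ U).subtype, T'.isPGroup'.map _,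
    fun x hx => ⟨⟨x, mem_sup_right hx⟩, hT' hx, rfl⟩, (map_subtype_le _).trans hN, fun Q hQA hQ => ?_⟩
  obtain ⟨Q', hQ'⟩ :=
    (hQ.comap_subtype : IsPGroup 2 (Q.subgroupOf (A ⊔ U))).exists_le_sylow
  obtain ⟨h, hh⟩ := MulAction.exists_smul_eq ↥(A ⊔ U) Q' T'
  refine ⟨h, fun x hx => ⟨⟨h * ⟨x, mem_sup_left (hQA hx)⟩ * h⁻¹, ?_, rfl⟩, ?_⟩⟩
  · rw [← hh]
    exact ⟨⟨x, mem_sup_left (hQA hx)⟩, hQ' hx, rfl⟩
  · exact (mem_normalizer_iff.1 (hN h.2) x).1 (hQA hx)

theorem rank_one (A U : Subgroup G) (hperf : ⁅A, A⁆ = A) (hU : IsKleinFour U)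
    (hUA : U ≤ normalizer (A : Set G))
    (hfour : ∀ u ∈ U, u ≠ 1 → ∀ x ∈ A, ∀ y ∈ A, x * x = 1 → y * y = 1 → x ≠ 1 → y ≠ 1 → x ≠ y →
      x * y = y * x → u * x = x * u → u * y = y * u → False)
    (B : Subgroup G) (hBA : B ≤ A) (_hBc : ∀ x ∈ B, ∀ y ∈ B, x * y = y * x)
    (hB2 : ∀ x ∈ B, x * x = 1) : Nat.card B ≤ 2 := by
  classical
  by_contra hcard
  have hUuu : ∀ u ∈ U, u * u = 1 := fun u hu => by
    have : (⟨u, hu⟩ : U) ^ 2 = 1 := by rw [← hU.exponent_two, Monoid.pow_exponent_eq_one]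
    rw [← pow_two]; exact congrArg Subtype.val this
  have hUp : IsPGroup 2 U := IsPGroup.of_card (n := 2) hU.card_four
  obtain ⟨T, hT, hUT, hTA, hconjS⟩ := exists_sylow_inter A U hUA hUp
  set S : Subgroup G := T ⊓ A with hS
  have hSp : IsPGroup 2 S := hT.to_le inf_le_left
  have hST : S ≤ T := inf_le_left
  have hSA : S ≤ A := inf_le_right
  -- `T` normalises `S`
  have hSn : (S.subgroupOf T).Normal := ⟨fun x hx t =>
    ⟨T.mul_mem (T.mul_mem t.2 x.2) (T.inv_mem t.2), (mem_normalizer_iff.1 (hTA t.2) x).1 hx.2⟩⟩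
  -- no `T`-invariant four-group in `S`
  obtain ⟨F₀, hF₀S, hF₀n, hF₀c, hF₀s⟩ := exists_cyclic_core hT (S.subgroupOf T) (by
    intro E hES hEn hEc hE2
    by_contra h2
    obtain ⟨n, hn⟩ := IsPGroup.iff_card.1 (hT.to_subgroup E)
    have hn2 : 2 ≤ n := by
      by_contra h
      have : 2 ^ n ≤ 2 ^ 1 := Nat.pow_le_pow_right two_pos (by omega)
      omega
    obtain ⟨E₁, hE₁n, hE₁E, hE₁c⟩ := Fusion.exists_normal_le_card_eq hT E (i := 2)
      (by rw [hn]; exact Nat.pow_le_pow_right two_pos hn2)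
    obtain ⟨Z, hZE, hZc, hZn, hZcard⟩ := Fusion.exists_central_card_prime hT E₁
      (fun e => by rw [e, card_bot] at hE₁c; omega)
    have hZnontriv : Nontrivial Z := Finite.one_lt_card_iff_nontrivial.1 (by omega)
    obtain ⟨⟨z, hz⟩, hz1⟩ := exists_ne (1 : Z)
    obtain ⟨e, he, heZ⟩ := SetLike.exists_of_lt (lt_of_le_of_ne hZE fun h => by
      rw [h, hE₁c] at hZcard; omega)
    have hi2 : (Z.subgroupOf E₁).index = 2 := by
      have := Subgroup.card_mul_index (Z.subgroupOf E₁)
      rw [Nat.card_congr (Subgroup.subgroupOfEquivOfLe hZE).toEquiv, hZcard, hE₁c] at this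
      omega
    have hZel : ∀ w ∈ Z, w = 1 ∨ w = z := fun w hw => by
      by_contra! hh
      have hs : ({1, z, w} : Set T) ⊆ (Z : Set T) := by
        rintro a (rfl | rfl | rfl)
        exacts [one_mem _, hz, hw]
      have h3 := Set.ncard_le_ncard hs (Set.toFinite _)
      rw [show (Z : Set T).ncard = Nat.card Z from rfl, hZcard, Set.ncard_eq_three.2
        ⟨(1 : T), z, w, fun h => hz1 (Subtype.ext h.symm), hh.1.symm, hh.2.symm, rfl⟩] at h3
      omega
    have hmoves : ∀ u : T, u * e * u⁻¹ = e ∨ u * e * u⁻¹ = z * e := fun u => by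
      have hue : u * e * u⁻¹ ∉ Z := fun h => heZ (by simpa [mul_assoc] using hZn.conj_mem _ h u⁻¹)
      have hd : u * e * u⁻¹ * e⁻¹ ∈ Z := by
        have h := (Subgroup.mul_mem_iff_of_index_two hi2 (a := (⟨_, hE₁n.conj_mem e he u⟩ : E₁))
          (b := ⟨e⁻¹, inv_mem he⟩)).2
        simp only [mem_subgroupOf, inv_mem_iff, hue, heZ] at h
        exact h trivial
      rcases hZel _ hd with h | h
      · exact Or.inl (mul_inv_eq_one.1 h)
      · exact Or.inr (mul_inv_eq_iff_eq_mul.1 h)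
    have hzc : ∀ u : T, (u : G) * z = z * u := fun u =>
      congrArg Subtype.val (mem_center_iff.1 (hZc hz) u)
    obtain ⟨u, hu, hu1, hue⟩ := exists_fix hU (e : G) ((z : G) * e)
      (fun u hu => (hmoves ⟨u, hUT hu⟩).imp (congrArg Subtype.val) (congrArg Subtype.val))
      (fun u hu hue => by
        have hz2 : (z : G) * z = 1 := by
          have := congrArg Subtype.val (pow_card_eq_one' (x := (⟨z, hz⟩ : Z)))
          rw [hZcard] at this
          simpa [pow_two] using congrArg Subtype.val this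
        calc u * ((z : G) * e) * u⁻¹ = (u * z) * e * u⁻¹ := by group
          _ = z * (u * e * u⁻¹) := by rw [hzc ⟨u, hUT hu⟩]; group
          _ = e := by rw [hue, ← mul_assoc, hz2, one_mul])
    refine hfour u hu hu1 z (hES (hE₁E (hZE hz))).2 e (hES (hE₁E he)).2 ?_ ?_ ?_ ?_ ?_ ?_
      (hzc ⟨u, hUT hu⟩) (mul_inv_eq_iff_eq_mul.1 hue)
    · simpa [pow_two] using congrArg Subtype.val (hE2 z (hE₁E (hZE hz)))
    · simpa [pow_two] using congrArg Subtype.val (hE2 e (hE₁E he))
    · exact fun h => hz1 (Subtype.ext (Subtype.ext h))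
    · exact fun h => heZ (by rw [show e = 1 from Subtype.ext h]; exact one_mem _)
    · exact fun h => heZ (by rw [← show z = e from Subtype.ext h]; exact hz)
    · exact (hzc e).symm)
  set F : Subgroup G := F₀.map T.subtype with hF
  have hFS : F ≤ S := by
    rintro _ ⟨x, hx, rfl⟩
    exact hF₀S hx
  have hFn : ∀ t ∈ T, ∀ f ∈ F, t * f * t⁻¹ ∈ F := by
    rintro t ht _ ⟨f, hf, rfl⟩
    exact ⟨_, hF₀n.conj_mem f hf ⟨t, ht⟩, rfl⟩
  have hFcyc : IsCyclic F :=
    (equivMapOfInjective F₀ T.subtype T.subtype_injective).isCyclic.1 hF₀c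
  have hFp : IsPGroup 2 F := hSp.to_le hFS
  -- two commuting involutions of `B` moved into `S`
  obtain ⟨a, ha⟩ := hconjS B hBA (fun x => ⟨1, Subtype.ext (by simpa [pow_two] using hB2 x x.2)⟩)
  obtain ⟨s, hsS, hss, hsF⟩ : ∃ s ∈ S, s * s = 1 ∧ s ∉ F := by
    by_contra! hcon
    have hinj : Function.Injective (fun x : B => (⟨a * x * a⁻¹, hcon _ (ha x x.2) (by
        rw [conj_mul, hB2 x x.2]; group)⟩ : F)) := fun x y h => by
      have := congrArg Subtype.val h
      exact Subtype.ext (mul_left_cancel (mul_right_cancel this))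
    let _ := Fintype.ofFinite F
    have hsol := IsCyclic.card_pow_eq_one_le (α := F) (n := 2) (by norm_num)
    let _ := Fintype.ofFinite B
    have h3 := (Finset.card_le_card (s := Finset.univ.map ⟨_, hinj⟩)
      (t := Finset.univ.filter fun a : F => a ^ 2 = 1) (by
        intro w hw
        obtain ⟨x, -, rfl⟩ := Finset.mem_map.1 hw
        simp only [Finset.mem_filter, Finset.mem_univ, true_and, Function.Embedding.coeFn_mk]
        refine Subtype.ext ?_
        rw [SubmonoidClass.coe_pow, pow_two]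
        show a * x * a⁻¹ * (a * x * a⁻¹) = 1
        rw [conj_mul, hB2 x x.2]; group)).trans hsol
    rw [Finset.card_map, Finset.card_univ, ← Nat.card_eq_fintype_card] at h3
    omega
  have hstruct : ∀ x ∈ S, x ∉ F → 4 ∣ Nat.card F ∧
      ∀ X ∈ F, orderOf X = 4 → x * X * x⁻¹ = X⁻¹ := fun x hx hxF => by
    obtain ⟨h4, hinv⟩ := hF₀s ⟨x, hx.1⟩ hx (fun h => hxF ⟨_, h, rfl⟩)
    refine ⟨?_, fun X hX hX4 => ?_⟩
    · rwa [hF, ← Nat.card_congr (equivMapOfInjective F₀ T.subtype T.subtype_injective).toEquiv]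
    · obtain ⟨X', hX', rfl⟩ := hX
      simpa using congrArg Subtype.val (hinv X' hX' (by simpa using hX4))
  obtain ⟨X, hXF, hX4⟩ : ∃ X ∈ F, orderOf X = 4 := by
    obtain ⟨r, hr⟩ := hFcyc.exists_generator
    obtain ⟨c, hc⟩ := (hstruct s hsS hsF).1
    refine ⟨(r : G) ^ c, pow_mem r.2 _, ?_⟩
    have hc0 : c ≠ 0 := by rintro rfl; exact Nat.card_pos.ne' (hc.trans (mul_zero 4))
    rw [orderOf_pow' _ hc0, Subgroup.orderOf_coe, orderOf_eq_card_of_forall_mem_zpowers hr, hc,
      Nat.gcd_eq_right (dvd_mul_left c 4), Nat.mul_div_cancel _ (Nat.pos_of_ne_zero hc0)]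
  have hsX : s * X * s⁻¹ = X⁻¹ := (hstruct s hsS hsF).2 X hXF hX4
  have hXX : X⁻¹ ≠ X := fun e => by
    have h2 : orderOf X ∣ 2 := orderOf_dvd_iff_pow_eq_one.2 (by
      rw [pow_two]
      nth_rewrite 1 [← e]
      exact inv_mul_cancel X)
    rw [hX4] at h2
    norm_num at h2
  -- elements of `S` outside `F` multiply into `F`
  have hidx : ∀ x ∈ S, ∀ y ∈ S, x ∉ F → y ∉ F → x * y ∈ F := fun x hx y hy hxF hyF => by
    by_contra h
    have h1 := (hstruct x hx hxF).2 X hXF hX4
    have h2 := (hstruct y hy hyF).2 X hXF hX4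
    have h3 := (hstruct _ (mul_mem hx hy) h).2 X hXF hX4
    apply hXX
    rw [← h3, show x * y * X * (x * y)⁻¹ = x * (y * X * y⁻¹) * x⁻¹ by group, h2, ← conj_inv, h1,
      inv_inv]
  obtain ⟨z, hz⟩ : ∃ z, z = X * X := ⟨_, rfl⟩
  have hzF : z ∈ F := hz ▸ mul_mem hXF hXF
  have hzz : z * z = 1 := by
    rw [hz, show X * X * (X * X) = X ^ 4 by simp [pow_succ, mul_assoc], ← hX4, pow_orderOf_eq_one]
  have hz1 : z ≠ 1 := fun e => hXX (inv_eq_of_mul_eq_one_right (hz ▸ e))
  have hzT : ∀ t ∈ T, t * z = z * t := fun t ht => by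
    have h : t * z * t⁻¹ = z := by
      rcases sq_eq_one_cases (F := F) hzF (hFn t ht z hzF) hzz hz1
        (by rw [conj_mul, hzz]; group) with h | h
      · exact absurd (by simpa using conj_eq_one_iff.1 h) hz1
      · exact h
    exact mul_inv_eq_iff_eq_mul.1 h
  have hinvo : ∀ x ∈ S, x * x = 1 → x ∉ F ∨ x = 1 ∨ x = z := fun x _ hx2 => by
    by_cases hxF : x ∈ F
    · exact Or.inr (sq_eq_one_cases hzF hxF hzz hz1 hx2)
    · exact Or.inl hxF
  -- the centraliser in `S` of an outer involution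
  have hcent : ∀ x ∈ S, x ∉ F → x * x = 1 → ∀ y ∈ S, x * y = y * x →
      y = 1 ∨ y = z ∨ y = x ∨ y = z * x := fun x hx hxF hx2 y hy hxy => by
    have hCF : ∀ f ∈ F, x * f = f * x → f = 1 ∨ f = z := fun f hf hxf => by
      refine sq_eq_one_cases hzF hf hzz hz1 ?_
      by_contra hf2
      obtain ⟨i, hi⟩ := mem_zpowers_iff.1 (mem_zpowers_of_orderOf_four hFp hXF hf hX4 hf2)
      apply hXX
      rw [← (hstruct x hx hxF).2 X hXF hX4, ← hi, ← conj_zpow, mul_inv_eq_iff_eq_mul.2 hxf]
    by_cases hyF : y ∈ F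
    · rcases hCF y hyF hxy with h | h
      · exact Or.inl h
      · exact Or.inr (Or.inl h)
    · have hxy' : x * (y * x) = y * x * x := by rw [← mul_assoc, hxy]
      rcases hCF _ (hidx y hy x hx hyF hxF) hxy' with h | h
      · right; right; left
        rw [eq_inv_of_mul_eq_one_left h, inv_eq_of_mul_eq_one_right hx2]
      · right; right; right
        rw [← h, mul_assoc, hx2, mul_one]
  -- an involution of `U` fixing `X`
  obtain ⟨u, huU, hu1, huX⟩ := exists_fix hU X X⁻¹ (fun u hu => by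
      have h4 : orderOf (u * X * u⁻¹) = 4 := by
        rw [← hX4]; exact orderOf_injective (MulAut.conj u).toMonoidHom (MulAut.conj u).injective X
      by_cases huF : u * X * u⁻¹ = X
      · exact Or.inl huF
      · right
        obtain ⟨i, hi⟩ := mem_zpowers_iff.1 (mem_zpowers_of_orderOf_four hFp
          (hFn u (hUT hu) X hXF) hXF h4 (fun e => hXX (inv_eq_of_mul_eq_one_right e)))
        have hodd : ¬ (2 : ℤ) ∣ i := by
          rintro ⟨j, rfl⟩
          rw [← hi, zpow_mul] at h4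
          have h2 : ((X ^ (2 : ℤ)) ^ j) ^ 2 = 1 := by
            rw [← zpow_natCast, ← zpow_mul, mul_comm, zpow_mul,
              show (X ^ (2 : ℤ)) ^ ((2 : ℕ) : ℤ) = X ^ orderOf X by rw [hX4]; group,
              pow_orderOf_eq_one, one_zpow]
          have := orderOf_dvd_iff_pow_eq_one.2 h2
          rw [h4] at this
          norm_num at this
        rcases (show i % 4 = 1 ∨ i % 4 = 3 by omega) with h | h
        · refine absurd ?_ huF
          rw [← hi, ← Int.emod_add_mul_ediv i 4, h, zpow_add, zpow_mul, zpow_one,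
            show X ^ (4 : ℤ) = X ^ orderOf X by rw [hX4]; norm_cast, pow_orderOf_eq_one,
            one_zpow, mul_one]
        · rw [← hi, ← Int.emod_add_mul_ediv i 4, h, zpow_add, zpow_mul,
            show X ^ (4 : ℤ) = X ^ orderOf X by rw [hX4]; norm_cast, pow_orderOf_eq_one, one_zpow,
            mul_one, eq_inv_iff_mul_eq_one, ← zpow_add_one,
            show X ^ ((3 : ℤ) + 1) = X ^ orderOf X by rw [hX4]; norm_cast, pow_orderOf_eq_one])
    (fun u _ hu => by rw [← conj_inv, hu, inv_inv])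
  have huu := hUuu u huU
  have huinv : u⁻¹ = u := inv_eq_of_mul_eq_one_right huu
  have hsT : s ∈ T := hsS.1
  have hsA : s ∈ A := hsS.2
  have hzA : z ∈ A := (hFS hzF).2
  have hsz : s ≠ z := fun e => hsF (e ▸ hzF)
  have hs1 : s ≠ 1 := fun e => hsF (e ▸ one_mem _)
  have hzs : z * s = s * z := (hzT s hsT).symm
  -- `u` moves `s` to `z * s`
  have hus : u * s * u⁻¹ = z * s := by
    obtain ⟨f, hf⟩ : ∃ f, f = u * s * u⁻¹ * s := ⟨_, rfl⟩
    have husS : u * s * u⁻¹ ∈ S :=
      ⟨T.mul_mem (T.mul_mem (hUT huU) hsT) (T.inv_mem (hUT huU)),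
        (mem_normalizer_iff.1 (hUA huU) s).1 hsA⟩
    have husF : u * s * u⁻¹ ∉ F := fun h => hsF (by
      simpa [mul_assoc] using hFn u⁻¹ (T.inv_mem (hUT huU)) _ h)
    have hfF : f ∈ F := hf ▸ hidx _ husS _ hsS husF hsF
    have hfu : u * f * u⁻¹ = f⁻¹ := by
      calc u * f * u⁻¹ = (u * u) * s * (u * u)⁻¹ * (u * s * u⁻¹) := by rw [hf]; group
        _ = s * (u * s * u⁻¹) := by rw [huu]; group
        _ = f⁻¹ := by
          rw [hf, mul_inv_rev (u * s * u⁻¹) s, conj_inv, inv_eq_of_mul_eq_one_right hss]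
    have hf2 : f * f = 1 := by
      by_contra h
      obtain ⟨i, hi⟩ := mem_zpowers_iff.1 (mem_zpowers_of_orderOf_four hFp hXF hfF hX4 h)
      apply hXX
      rw [← hi, ← inv_zpow, ← hfu, conj_zpow, hi, huX]
    rcases sq_eq_one_cases hzF hfF hzz hz1 hf2 with h | h
    · have h' : u * s * u⁻¹ = s := by
        rw [eq_inv_of_mul_eq_one_left (hf.symm.trans h), inv_eq_of_mul_eq_one_right hss]
      exact (hfour u huU hu1 z hzA s hsA hzz hss hz1 hs1 hsz.symm hzs (hzT u (hUT huU))
        (mul_inv_eq_iff_eq_mul.1 h')).elim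
    · rw [← h, hf, mul_assoc (u * s * u⁻¹), hss, mul_one]
  have huA : u ∉ A := fun huA => by
    by_cases huz : u = z
    · rw [huz, hzs, mul_assoc, mul_inv_cancel, mul_one] at hus
      exact hz1 (by simpa using hus.symm)
    · exact hfour u huU hu1 u huA z hzA huu hzz hu1 hz1 huz (hzT u (hUT huU)) rfl (hzT u (hUT huU))
  -- `S` is Sylow in `A`; Thompson transfer makes `s` conjugate to `z`
  have hSmax : ∀ Q : Subgroup G, Q ≤ A → IsPGroup 2 Q → Nat.card Q ≤ Nat.card S := by
    intro Q hQA hQ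
    obtain ⟨a, ha⟩ := hconjS Q hQA hQ
    exact Nat.card_le_card_of_injective (fun x : Q => (⟨a * x * a⁻¹, ha x x.2⟩ : S))
      fun x y h => Subtype.ext (mul_left_cancel (mul_right_cancel (congrArg Subtype.val h)))
  obtain ⟨g, hgA, hgs⟩ : ∃ g ∈ A, g * s * g⁻¹ = z := by
    let P : Sylow 2 A :=
      { toSubgroup := S.subgroupOf A
        isPGroup' := hSp.comap_subtype
        is_maximal' := fun {Q} hQ hle => by
          refine le_antisymm ?_ hle
          have h1 : S ≤ Q.map A.subtype := fun x hx => ⟨⟨x, hSA hx⟩, hle hx, rfl⟩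
          have h2 := eq_of_le_of_card_ge h1 (hSmax _ (map_subtype_le _) (hQ.map _))
          intro x hx
          show (x : G) ∈ S
          rw [h2]
          exact ⟨x, hx, rfl⟩ }
    have hQi : (F.subgroupOf A).relIndex (S.subgroupOf A) = 2 := by
      rw [relIndex_subgroupOf hSA, Subgroup.relIndex, index_eq_two_iff]
      refine ⟨⟨s, hsS⟩, fun b => ?_⟩
      simp only [mem_subgroupOf, Subgroup.coe_mul]
      by_cases hb : (b : G) ∈ F
      · exact Or.inr ⟨hb, fun h => hsF (by simpa using mul_mem (inv_mem hb) h)⟩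
      · exact Or.inl ⟨hidx _ b.2 _ hsS hb hsF, hb⟩
    rcases Cfsg.Agent.S0111.result P (F.subgroupOf A) (fun x hx => hFS hx) hQi
      (⟨s, hsA⟩ : A) (orderOf_eq_prime (Subtype.ext (by simpa [pow_two] using hss))
        (fun e => hs1 (congrArg Subtype.val e))) hsS hsF with ⟨M, hMn, hMi, hMs⟩ | ⟨g, hg⟩
    · exfalso
      have hle : ⁅(⊤ : Subgroup A), ⊤⁆ ≤ M := by
        rw [commutator_le]
        intro p _ q _
        simp only [commutatorElement_def, mul_mem_iff_of_index_two hMi, inv_mem_iff]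
        tauto
      have hp2 : ⁅(⊤ : Subgroup A), (⊤ : Subgroup A)⁆ = ⊤ := by
        apply map_injective A.subtype_injective
        rw [map_commutator, ← MonoidHom.range_eq_map, range_subtype, hperf]
      rw [hp2] at hle
      exact hMs (hle (mem_top _))
    · refine ⟨g, g.2, ?_⟩
      have hgF : (g : G) * s * (g : G)⁻¹ ∈ F := hg
      rcases sq_eq_one_cases hzF hgF hzz hz1
        (by rw [conj_mul, hss]; group) with h | h
      · exact absurd (conj_eq_one_iff.1 h) hs1
      · exact h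
  -- the four-group `E = ⟨z, s⟩` has centraliser 2-subgroups inside itself
  let E : Set G := {1, z, s, z * s}
  have hEcent : ∀ y ∈ A, ∀ Q : Subgroup G, IsPGroup 2 Q → y ∈ Q → Q ≤ A → z ∈ Q → s ∈ Q →
      y * z = z * y → y * s = s * y → y ∈ E := fun y _ Q hQ hyQ hQA hzQ hsQ hyz hys => by
    obtain ⟨a, ha⟩ := hconjS Q hQA hQ
    have hc : ∀ p q : G, a * (p * q) * a⁻¹ = a * p * a⁻¹ * (a * q * a⁻¹) := fun p q => by group
    have hinj : ∀ p q : G, a * p * a⁻¹ = a * q * a⁻¹ → p = q := fun p q h =>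
      mul_left_cancel (mul_right_cancel h)
    have hone : a * 1 * a⁻¹ = 1 := by group
    have hcomm : ∀ p q : G, p * q = q * p → a * p * a⁻¹ * (a * q * a⁻¹) =
        a * q * a⁻¹ * (a * p * a⁻¹) := fun p q h => by rw [← hc, h, hc]
    -- one of the conjugates of `z`, `s` is outside `F`
    rcases hinvo _ (ha s hsQ) (by rw [← hc, hss]; group) with hso | hso | hso
    · -- `s` goes outside
      have hk := hcent _ (ha s hsQ) hso (by rw [← hc, hss]; group)
      have hkz := hk _ (ha z hzQ) (hcomm s z hzs.symm)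
      have hky := hk _ (ha y hyQ) (hcomm s y hys.symm)
      have hzval : a * z * a⁻¹ = z ∨ a * z * a⁻¹ = z * (a * s * a⁻¹) := by
        rcases hkz with h | h | h | h
        · exact absurd (hinj z 1 (h.trans hone.symm)) hz1
        · exact Or.inl h
        · exact absurd (hinj z s h).symm hsz
        · exact Or.inr h
      rcases hky with h | h | h | h
      · exact Or.inl (hinj y 1 (h.trans hone.symm))
      · rcases hzval with hz' | hz'
        · exact Or.inr (Or.inl (hinj y z (h.trans hz'.symm)))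
        · refine Or.inr (Or.inr (Or.inr (hinj y (z * s) (h.trans ?_))))
          rw [hc, hz', mul_assoc, ← hc, hss]; group
      · exact Or.inr (Or.inr (Or.inl (hinj y s h)))
      · rcases hzval with hz' | hz'
        · exact Or.inr (Or.inr (Or.inr (hinj y (z * s) (by rw [h, hc, hz']))))
        · exact Or.inr (Or.inl (hinj y z (h.trans hz'.symm)))
    · exact absurd (hinj s 1 (hso.trans hone.symm)) hs1
    · -- `s` goes to `z`, so `z` goes outside
      rcases hinvo _ (ha z hzQ) (by rw [← hc, hzz]; group) with hzo | hzo | hzo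
      · have hk := hcent _ (ha z hzQ) hzo (by rw [← hc, hzz]; group)
        rcases hk _ (ha y hyQ) (hcomm z y hyz.symm) with h | h | h | h
        · exact Or.inl (hinj y 1 (h.trans hone.symm))
        · exact Or.inr (Or.inr (Or.inl (hinj y s (h.trans hso.symm))))
        · exact Or.inr (Or.inl (hinj y z h))
        · exact Or.inr (Or.inr (Or.inr (hinj y (z * s) (by rw [h, hzs, hc, hso]))))
      · exact absurd (hinj z 1 (hzo.trans hone.symm)) hz1
      · exact absurd (hinj s z (hso.trans hzo.symm)) hsz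
  -- a 2-element of `A` fixing `s` and moving `z` to `z * s`
  have hEs : ∀ e ∈ E, e * s = s * e := by
    rintro e (rfl | rfl | rfl | rfl)
    · rw [one_mul, mul_one]
    · exact hzs
    · rfl
    · rw [mul_assoc, hss, mul_one, ← mul_assoc, ← hzs, mul_assoc, hss, mul_one]
  have hEmul : ∀ p ∈ E, ∀ q ∈ E, p * q ∈ E := by
    have e1 : z * (z * s) = s := by rw [← mul_assoc, hzz, one_mul]
    have e2 : s * (z * s) = z := by rw [← mul_assoc, ← hzs, mul_assoc, hss, mul_one]
    have e3 : z * s * z = s := by rw [hzs, mul_assoc, hzz, mul_one]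
    have e4 : z * s * s = z := by rw [mul_assoc, hss, mul_one]
    have e5 : z * s * (z * s) = 1 := by rw [mul_assoc, e2, hzz]
    rintro p (rfl | rfl | rfl | rfl) q (rfl | rfl | rfl | rfl) <;>
      simp only [E, Set.mem_insert_iff, Set.mem_singleton_iff, one_mul, mul_one, hzz, hss, e1, e2,
        e3, e4, e5, ← hzs, true_or, or_true]
  have hEsq : ∀ e ∈ E, e * e = 1 := by
    rintro e (rfl | rfl | rfl | rfl)
    · exact one_mul 1
    · exact hzz
    · exact hss
    · rw [mul_assoc, ← mul_assoc s, ← hzs, mul_assoc, hss, mul_one, hzz]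
  let Eg : Subgroup G :=
    { carrier := E
      one_mem' := Or.inl rfl
      mul_mem' := fun {p q} hp hq => hEmul p hp q hq
      inv_mem' := fun {p} hp => by rwa [inv_eq_of_mul_eq_one_right (hEsq p hp)] }
  have hEgA : Eg ≤ A := by
    rintro e (rfl | rfl | rfl | rfl)
    exacts [one_mem _, hzA, hsA, mul_mem hzA hsA]
  have hEgp : IsPGroup 2 Eg := fun e => ⟨1, Subtype.ext (by
    simpa [pow_two] using hEsq e e.2)⟩
  have hzE : z ∈ Eg := Or.inr (Or.inl rfl)
  have hsE : s ∈ Eg := Or.inr (Or.inr (Or.inl rfl))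
  obtain ⟨t, htA, hts, htz⟩ : ∃ t ∈ A, t * s * t⁻¹ = s ∧ t * z * t⁻¹ = z * s := by
    let C := A ⊓ centralizer ({s} : Set G)
    let S₁ : Subgroup G := S.map (MulAut.conj g⁻¹).toMonoidHom
    have hcard₁ : Nat.card S₁ = Nat.card S :=
      (Nat.card_congr (equivMapOfInjective S _ (MulAut.conj g⁻¹).injective).toEquiv).symm
    have hS₁C : S₁ ≤ C := by
      rintro _ ⟨x, hx, rfl⟩
      refine ⟨A.mul_mem (A.mul_mem (inv_mem hgA) (hSA hx)) (inv_mem (inv_mem hgA)),
        mem_centralizer_singleton_iff.2 ?_⟩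
      show g⁻¹ * x * g⁻¹⁻¹ * s = s * (g⁻¹ * x * g⁻¹⁻¹)
      have hs' : s = g⁻¹ * z * g := by rw [← hgs]; group
      calc g⁻¹ * x * g⁻¹⁻¹ * s = g⁻¹ * (x * z) * g := by rw [hs']; group
        _ = g⁻¹ * (z * x) * g := by rw [hzT x (hST hx)]
        _ = _ := by rw [hs']; group
    obtain ⟨c, hc, hcE⟩ := exists_conj_le C S₁ Eg hS₁C (hSp.map _)
      (fun R hR hRp => hcard₁ ▸ hSmax R (hR.trans inf_le_left) hRp)
      (fun e he => ⟨hEgA he, mem_centralizer_singleton_iff.2 (hEs e he)⟩) hEgp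
    let S₂ : Subgroup G := S₁.map (MulAut.conj c⁻¹).toMonoidHom
    have hES₂ : Eg ≤ S₂ := fun e he => ⟨_, hcE e he, by simp [mul_assoc]⟩
    have hS₂C : S₂ ≤ C := by
      rintro _ ⟨x, hx, rfl⟩
      exact C.mul_mem (C.mul_mem (inv_mem hc) (hS₁C hx)) (inv_mem (inv_mem hc))
    have hne : Eg ≠ S₂ := fun e => by
      have h5 : Nat.card Eg = Nat.card S := by
        rw [e, ← hcard₁]
        exact (Nat.card_congr (equivMapOfInjective S₁ _ (MulAut.conj c⁻¹).injective).toEquiv).symm
      have hsub : ({1, z, s, z * s, X} : Set G) ⊆ (S : Set G) := by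
        rintro w (rfl | rfl | rfl | rfl | rfl)
        exacts [one_mem _, hFS hzF, hsS, mul_mem (hFS hzF) hsS, hFS hXF]
      have h6 := Set.ncard_le_ncard hsub (Set.toFinite _)
      have hX : X ∉ E := by
        rintro (h | h | h | h)
        · rw [h, orderOf_one] at hX4; omega
        · exact hXX (by rw [h]; exact inv_eq_of_mul_eq_one_right hzz)
        · exact hsF (h ▸ hXF)
        · refine hsF ?_
          have h' := mul_mem hzF hXF
          rwa [h, ← mul_assoc, hzz, one_mul] at h'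
      rw [show ({1, z, s, z * s, X} : Set G) = insert X E by
            ext w; simp only [E, Set.mem_insert_iff, Set.mem_singleton_iff]; tauto,
        Set.ncard_insert_of_notMem hX (Set.toFinite _), show (S : Set G).ncard = Nat.card S from rfl,
        ← h5, show Nat.card Eg = E.ncard from rfl] at h6
      omega
    have hS₂p : IsPGroup 2 S₂ := (hSp.map _).map _
    have := hS₂p.isNilpotent
    have hlt : Eg.subgroupOf S₂ < ⊤ := by
      rw [lt_top_iff_ne_top, Ne, subgroupOf_eq_top]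
      exact fun h => hne (le_antisymm hES₂ h)
    obtain ⟨⟨t, ht⟩, htn, htE⟩ :=
      SetLike.exists_of_lt (Group.normalizerCondition_of_isNilpotent _ hlt)
    have htA : t ∈ A := (hS₂C ht).1
    have htsc : t * s = s * t := mem_centralizer_singleton_iff.1 (hS₂C ht).2
    have hts : t * s * t⁻¹ = s := mul_inv_eq_iff_eq_mul.2 htsc
    refine ⟨t, htA, hts, ?_⟩
    have hmem : t * z * t⁻¹ ∈ E := (mem_normalizer_iff.1 htn ⟨z, hES₂ hzE⟩).1 hzE
    rcases hmem with h | h | h | h
    · exact absurd (conj_eq_one_iff.1 h) hz1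
    · exact absurd (hEcent t htA S₂ hS₂p ht (hS₂C.trans inf_le_left) (hES₂ hzE) (hES₂ hsE)
        (mul_inv_eq_iff_eq_mul.1 h) htsc) (fun h' => htE h')
    · exact absurd (mul_left_cancel (mul_right_cancel (hts.trans h.symm))) hsz
    · exact h
  -- the subgroup `A⟨u⟩`
  have hconjA : ∀ x ∈ A, u * x * u ∈ A := fun x hx => by
    have := (mem_normalizer_iff.1 (hUA huU) x).1 hx
    rwa [huinv] at this
  let H : Subgroup G :=
    { carrier := {x | x ∈ A ∨ x * u ∈ A}
      one_mem' := Or.inl (one_mem _)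
      mul_mem' := fun {p q} hp hq => by
        rcases hp with hp | hp <;> rcases hq with hq | hq
        · exact Or.inl (mul_mem hp hq)
        · exact Or.inr (by rw [mul_assoc]; exact mul_mem hp hq)
        · refine Or.inr ?_
          have := mul_mem hp (hconjA q hq)
          rwa [show p * u * (u * q * u) = p * ((u * u) * q) * u by group, huu, one_mul] at this
        · refine Or.inl ?_
          have := mul_mem hp (hconjA _ hq)
          rwa [show p * u * (u * (q * u) * u) = p * ((u * u) * q * (u * u)) by group, huu, one_mul,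
            mul_one] at this
      inv_mem' := fun {p} hp => by
        rcases hp with hp | hp
        · exact Or.inl (inv_mem hp)
        · refine Or.inr ?_
          have := hconjA _ (inv_mem hp)
          rwa [mul_inv_rev, ← mul_assoc, mul_inv_cancel, one_mul] at this }
  have hAH : A ≤ H := fun x hx => Or.inl hx
  let K : Subgroup G := H ⊓ centralizer (E : Set G)
  obtain ⟨w, hw⟩ : ∃ w, w = u * X := ⟨_, rfl⟩
  have hXu : X * u = u * X := (mul_inv_eq_iff_eq_mul.1 huX).symm
  have hww : w * w = z := by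
    rw [hw, hz, show u * X * (u * X) = u * (X * u) * X by group, hXu, ← mul_assoc, huu, one_mul]
  have hwz : w * z = z * w := by rw [← hww, mul_assoc]
  have hws : w * s = s * w := by
    have h1 : X * s * X⁻¹ = z * s := by
      calc X * s * X⁻¹ = X * (s * X * s⁻¹)⁻¹ * s := by group
        _ = z * s := by rw [hsX, inv_inv, hz]
    rw [← mul_inv_eq_iff_eq_mul, hw]
    calc u * X * s * (u * X)⁻¹ = u * (X * s * X⁻¹) * u⁻¹ := by group
      _ = u * (z * s) * u⁻¹ := by rw [h1]
      _ = z * (u * s * u⁻¹) := by rw [← mul_assoc u, hzT u (hUT huU)]; group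
      _ = s := by rw [hus, ← mul_assoc, hzz, one_mul]
  have hwE : ∀ e ∈ E, w * e = e * w := by
    rintro e (rfl | rfl | rfl | rfl)
    · rw [one_mul, mul_one]
    · exact hwz
    · exact hws
    · rw [← mul_assoc, hwz, mul_assoc, hws, ← mul_assoc]
  have hwA : w ∉ A := fun h => huA (by
    simpa [hw] using mul_mem h (inv_mem (hSA (hFS hXF))))
  have hwH : w ∈ H := by
    refine Or.inr ?_
    rw [hw]
    exact hconjA X (hSA (hFS hXF))
  have hzcE : ∀ e ∈ E, z * e = e * z := by
    rintro e (rfl | rfl | rfl | rfl)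
    · rw [one_mul, mul_one]
    · rfl
    · exact hzs
    · rw [mul_assoc, ← hzs]
  have hEcomm : ∀ p ∈ E, ∀ q ∈ E, p * q = q * p := fun p hp q hq => by
    rcases hp with rfl | rfl | rfl | rfl
    · rw [one_mul, mul_one]
    · exact hzcE q hq
    · exact (hEs q hq).symm
    · rw [mul_assoc, ← hEs q hq, ← mul_assoc, hzcE q hq, mul_assoc]
  let P₀ : Subgroup G :=
    { carrier := {x | x ∈ E ∨ ∃ e ∈ E, x = e * w}
      one_mem' := Or.inl (Or.inl rfl)
      mul_mem' := fun {p q} hp hq => by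
        rcases hp with hp | ⟨e, he, rfl⟩ <;> rcases hq with hq | ⟨e', he', rfl⟩
        · exact Or.inl (hEmul p hp q hq)
        · exact Or.inr ⟨p * e', hEmul p hp e' he', by rw [mul_assoc]⟩
        · exact Or.inr ⟨e * q, hEmul e he q hq, by rw [mul_assoc, hwE q hq, ← mul_assoc]⟩
        · refine Or.inl ?_
          rw [show e * w * (e' * w) = e * (w * e') * w by group, hwE e' he',
            show e * (e' * w) * w = e * e' * (w * w) by group, hww]
          exact hEmul _ (hEmul e he e' he') z hzE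
      inv_mem' := fun {p} hp => by
        rcases hp with hp | ⟨e, he, rfl⟩
        · exact Or.inl (by rwa [inv_eq_of_mul_eq_one_right (hEsq p hp)])
        · refine Or.inr ⟨e * z, hEmul e he z hzE, inv_eq_of_mul_eq_one_right ?_⟩
          rw [show e * w * (e * z * w) = e * (w * (e * z)) * w by group,
            hwE _ (hEmul e he z hzE), show e * (e * z * w) * w = e * e * z * (w * w) by group,
            hww, hEsq e he, one_mul, hzz] }
  have hP₀K : P₀ ≤ K := by
    rintro p (hp | ⟨e, he, rfl⟩)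
    · exact ⟨hAH (hEgA hp), mem_centralizer_iff.2 fun q hq => hEcomm q hq p hp⟩
    · refine ⟨H.mul_mem (hAH (hEgA he)) hwH, mem_centralizer_iff.2 fun q hq => ?_⟩
      rw [← mul_assoc, hEcomm q hq e he, mul_assoc, ← hwE q hq, ← mul_assoc]
  have hP₀sq : ∀ p ∈ P₀, p * p = 1 ∨ p * p = z := by
    rintro p (hp | ⟨e, he, rfl⟩)
    · exact Or.inl (hEsq p hp)
    · right
      rw [show e * w * (e * w) = e * (w * e) * w by group, hwE e he,
        show e * (e * w) * w = e * e * (w * w) by group, hEsq e he, one_mul, hww]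
  have hP₀p : IsPGroup 2 P₀ := fun p => ⟨2, Subtype.ext (by
    rw [SubmonoidClass.coe_pow, OneMemClass.coe_one, show (2 : ℕ) ^ 2 = 2 * 2 from rfl, pow_mul,
      pow_two, pow_two]
    rcases hP₀sq p p.2 with h | h <;> rw [h]
    · exact one_mul 1
    · exact hzz)⟩
  have hP₀max : ∀ R : Subgroup G, R ≤ K → IsPGroup 2 R → Nat.card R ≤ Nat.card P₀ := by
    intro R hRK hR
    have hRA : ∀ x ∈ R, x ∈ A → x ∈ E := fun x hx hxA => by
      have hn : Eg ≤ normalizer ((R ⊓ A : Subgroup G) : Set G) := fun e he => by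
        rw [mem_normalizer_iff]
        have hc : ∀ r ∈ R, e * r * e⁻¹ = r := fun r hr => by
          rw [mem_centralizer_iff.1 (hRK hr).2 e he, mul_inv_cancel_right]
        intro r
        refine ⟨fun hr => by rw [hc r hr.1]; exact hr, fun hr => ?_⟩
        have h1 := hc _ hr.1
        have : e * r * e⁻¹ = r := mul_left_cancel (mul_right_cancel h1)
        rwa [this] at hr
      exact hEcent x hxA (R ⊓ A ⊔ Eg) ((hR.to_le inf_le_left).to_sup_of_normal_left' hEgp hn)
        (mem_sup_left ⟨hx, hxA⟩) (sup_le inf_le_right hEgA) (mem_sup_right hzE)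
        (mem_sup_right hsE) (mem_centralizer_iff.1 (hRK hx).2 z hzE).symm
        (mem_centralizer_iff.1 (hRK hx).2 s hsE).symm
    by_cases hall : ∀ x ∈ R, x ∈ A
    · exact Nat.card_le_card_of_injective
        (fun x : R => (⟨x, Or.inl (hRA x x.2 (hall x x.2))⟩ : P₀))
        fun x y h => Subtype.ext (congrArg (fun p : P₀ => (p : G)) h)
    push Not at hall
    obtain ⟨r₀, hr₀, hr₀A⟩ := hall
    have hout : ∀ x ∈ R, x ∉ A → x * r₀⁻¹ ∈ E := fun x hx hxA => by
      refine hRA _ (mul_mem hx (inv_mem hr₀)) ?_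
      have h1 := (hRK hx).1.resolve_left hxA
      have h2 := (hRK hr₀).1.resolve_left hr₀A
      have := mul_mem h1 (inv_mem h2)
      rwa [mul_inv_rev, show x * u * (u⁻¹ * r₀⁻¹) = x * r₀⁻¹ by group] at this
    refine Nat.card_le_card_of_injective (fun x : R => if h : (x : G) ∈ A then
      (⟨x, Or.inl (hRA x x.2 h)⟩ : P₀) else ⟨(x * r₀⁻¹) * w, Or.inr ⟨_, hout x x.2 h, rfl⟩⟩) ?_
    intro x y hxy
    dsimp only at hxy
    by_cases hx : (x : G) ∈ A <;> by_cases hy : (y : G) ∈ A <;>
      simp only [hx, hy, dif_pos, dif_neg, not_false_eq_true, Subtype.mk.injEq] at hxy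
    · exact Subtype.ext hxy
    · refine absurd ?_ hwA
      rw [show w = ((y : G) * r₀⁻¹)⁻¹ * (((y : G) * r₀⁻¹) * w) by group]
      exact mul_mem (inv_mem (hEgA (hout y y.2 hy))) (hxy ▸ hx)
    · refine absurd ?_ hwA
      rw [show w = ((x : G) * r₀⁻¹)⁻¹ * (((x : G) * r₀⁻¹) * w) by group]
      exact mul_mem (inv_mem (hEgA (hout x x.2 hx))) (hxy.symm ▸ hy)
    · exact Subtype.ext (mul_right_cancel (mul_right_cancel hxy))
  -- `t` normalises `K`, hence some element of `K * t` normalises `P₀`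
  have htE : ∀ e ∈ E, t⁻¹ * e * t ∈ E := by
    have h1 : t⁻¹ * s * t = s := by
      calc t⁻¹ * s * t = t⁻¹ * (t * s * t⁻¹) * t := by rw [hts]
        _ = s := by group
    have h2 : t⁻¹ * z * t = z * s := by
      have h3 : t⁻¹ * (z * s) * t = z := by rw [← htz]; group
      rw [show t⁻¹ * (z * s) * t = t⁻¹ * z * t * (t⁻¹ * s * t) by group, h1] at h3
      calc t⁻¹ * z * t = t⁻¹ * z * t * s * s := by rw [mul_assoc (t⁻¹ * z * t), hss, mul_one]
        _ = z * s := by rw [h3]
    rintro e (rfl | rfl | rfl | rfl)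
    · exact Or.inl (by group)
    · exact Or.inr (Or.inr (Or.inr h2))
    · exact Or.inr (Or.inr (Or.inl h1))
    · rw [show t⁻¹ * (z * s) * t = t⁻¹ * z * t * (t⁻¹ * s * t) by group, h1, h2, mul_assoc, hss,
        mul_one]
      exact hzE
  have htK : ∀ x ∈ K, t * x * t⁻¹ ∈ K := fun x hx => by
    refine ⟨H.mul_mem (H.mul_mem (hAH htA) hx.1) (H.inv_mem (hAH htA)),
      mem_centralizer_iff.2 ?_⟩
    intro e he
    have := mem_centralizer_iff.1 hx.2 _ (htE e he)
    calc e * (t * x * t⁻¹) = t * (t⁻¹ * e * t * x) * t⁻¹ := by group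
      _ = _ := by rw [this]; group
  let P₁ : Subgroup G := P₀.map (MulAut.conj t).toMonoidHom
  obtain ⟨k, hk, hkP⟩ := exists_conj_le K P₀ P₁ hP₀K hP₀p hP₀max
    (by rintro _ ⟨p, hp, rfl⟩; exact htK p (hP₀K hp)) (hP₀p.map _)
  have hk' := hkP (t * w * t⁻¹) ⟨w, Or.inr ⟨1, Or.inl rfl, (one_mul w).symm⟩, rfl⟩
  have hkz : k * (z * s) * k⁻¹ = z * s := by
    rw [← mem_centralizer_iff.1 hk.2 (z * s) (Or.inr (Or.inr (Or.inr rfl))), mul_inv_cancel_right]
  have hsq := hP₀sq _ hk'
  rw [conj_mul, conj_mul, hww, htz, hkz] at hsq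
  rcases hsq with h | h
  · exact hsz.symm (by rw [eq_inv_of_mul_eq_one_left h, inv_eq_of_mul_eq_one_right hss])
  · exact hs1 (by simpa using h)

end Cfsg.Agent.FourRankOne
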