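import Cfsg.Agent.Invol.UniqueInvolution

/-!
A normal subgroup `S` of a finite 2-group `P` in which every `P`-invariant elementary abelian
subgroup has order at most two has a `P`-invariant cyclic subgroup, outside of which all its
elements invert the elements of order four of that subgroup.
-/

set_option autoImplicit false

namespace Cfsg.Agent.FourRankOne

open Subgroup

variable {P : Type*} [Group P] [Finite P]

theorem exists_cyclic_core (hP : IsPGroup 2 P) (S : Subgroup P) [S.Normal]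
    (hno : ∀ E : Subgroup P, E ≤ S → E.Normal → IsMulCommutative E → (∀ e ∈ E, e ^ 2 = 1) →
      Nat.card E ≤ 2) :
    ∃ F : Subgroup P, F ≤ S ∧ F.Normal ∧ IsCyclic F ∧
      ∀ s ∈ S, s ∉ F → 4 ∣ Nat.card F ∧
        ∀ X ∈ F, orderOf X = 4 → s * X * s⁻¹ = X⁻¹ := by
  classical
  obtain ⟨F, hF, hmax⟩ := Set.Finite.exists_maximal
    (Set.toFinite {B : Subgroup P | B ≤ S ∧ B.Normal ∧ IsMulCommutative B})
    ⟨⊥, bot_le, inferInstance, inferInstance⟩
  obtain ⟨hFS, hFn, hFc⟩ := hF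
  have hcm : ∀ x ∈ F, ∀ y ∈ F, x * y = y * x := fun x hx y hy =>
    congrArg Subtype.val (hFc.is_comm.comm (⟨x, hx⟩ : F) ⟨y, hy⟩)
  -- a subgroup just above `F` in `C_S(F)` would contradict maximality
  have hC : ∀ y ∈ S, (∀ f ∈ F, f * y = y * f) → y ∈ F := by
    by_contra! hcon
    obtain ⟨y, hy, hyc, hyF⟩ := hcon
    have hlt : F < S ⊓ centralizer (F : Set P) :=
      lt_of_le_of_ne (le_inf hFS (le_centralizer_iff_isMulCommutative.mpr hFc))
        (fun e => hyF (e ▸ ⟨hy, mem_centralizer_iff.2 hyc⟩))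
    obtain ⟨L, hLn, hFL, hLC, hLc, -⟩ := Fusion.exists_normal_card_succ hP F _ hlt
    have hi : (F.subgroupOf L).index = 2 := by
      change F.relIndex L = 2
      have := Subgroup.card_mul_index (F.subgroupOf L)
      rw [Nat.card_congr (Subgroup.subgroupOfEquivOfLe hFL).toEquiv, hLc, mul_comm 2] at this
      exact Nat.eq_of_mul_eq_mul_left Nat.card_pos this
    have hL : IsMulCommutative L := by
      refine ⟨⟨fun a b => Subtype.ext ?_⟩⟩
      show (a : P) * b = b * a
      by_cases ha : (a : P) ∈ F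
      · exact mem_centralizer_iff.1 (hLC b.2).2 a ha
      · by_cases hb : (b : P) ∈ F
        · exact (mem_centralizer_iff.1 (hLC a.2).2 b hb).symm
        · have : (a : P)⁻¹ * b ∈ F := by
            have h := (Subgroup.mul_mem_iff_of_index_two hi (a := a⁻¹) (b := b)).2
            simp only [inv_mem_iff, mem_subgroupOf, ha, hb] at h
            exact h trivial
          have h1 := mem_centralizer_iff.1 (hLC a.2).2 _ this
          calc (a : P) * b = a * (a * ((a : P)⁻¹ * b)) := by group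
            _ = a * ((a : P)⁻¹ * b * a) := by rw [h1]
            _ = b * a := by group
    obtain ⟨x, hxL, hxF⟩ := SetLike.exists_of_lt (lt_of_le_of_ne hFL fun e => by
      rw [← e] at hLc
      have := Nat.card_pos (α := F)
      omega)
    exact hxF (hmax ⟨hLC.trans inf_le_left, hLn, hL⟩ hFL hxL)
  -- `F` is cyclic
  let W : Subgroup P :=
    { carrier := {x | x ∈ F ∧ x ^ 2 = 1}
      one_mem' := ⟨one_mem _, one_pow _⟩
      mul_mem' := fun {a b} ha hb => ⟨mul_mem ha.1 hb.1, by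
        rw [(show Commute a b from hcm a ha.1 b hb.1).mul_pow, ha.2, hb.2, mul_one]⟩
      inv_mem' := fun {a} ha => ⟨inv_mem ha.1, by rw [inv_pow, ha.2, inv_one]⟩ }
  have hWn : W.Normal := ⟨fun x hx g => ⟨hFn.conj_mem x hx.1 g, by rw [conj_pow, hx.2]; group⟩⟩
  have hW : Nat.card W ≤ 2 := hno W (fun x hx => hFS hx.1) hWn
    ⟨⟨fun a b => Subtype.ext (hcm _ a.2.1 _ b.2.1)⟩⟩ fun x hx => hx.2
  have hcyc : IsCyclic F := by
    refine Invol.isCyclic_of_unique_involution (hP.to_subgroup F) fun x y hx hy => ?_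
    by_contra hne
    have hsq : ∀ w : F, orderOf w = 2 → (w : P) ∈ W := fun w hw =>
      ⟨w.2, by simpa [hw] using congrArg Subtype.val (pow_orderOf_eq_one w)⟩
    have hx1 : (x : P) ≠ 1 := fun e => by
      rw [Subtype.ext (e.trans F.coe_one.symm), orderOf_one] at hx; omega
    have hy1 : (y : P) ≠ 1 := fun e => by
      rw [Subtype.ext (e.trans F.coe_one.symm), orderOf_one] at hy; omega
    have hsub : ({1, (x : P), (y : P)} : Set P) ⊆ (W : Set P) := by
      rintro w (rfl | rfl | rfl)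
      exacts [one_mem _, hsq x hx, hsq y hy]
    have h3 := Set.ncard_le_ncard hsub (Set.toFinite _)
    rw [show (W : Set P).ncard = Nat.card W from rfl, Set.ncard_eq_three.2
      ⟨(1 : P), (x : P), (y : P), hx1.symm, hy1.symm, fun e => hne (Subtype.ext e), rfl⟩] at h3
    omega
  refine ⟨F, hFS, hFn, hcyc, fun s hsS hsF => ?_⟩
  obtain ⟨r₀, hr₀⟩ := hcyc.exists_generator
  set r : P := (r₀ : P) with hr
  have hgen : ∀ f ∈ F, ∃ i : ℤ, f = r ^ i := fun f hf => by
    obtain ⟨i, hi⟩ := Subgroup.mem_zpowers_iff.1 (hr₀ ⟨f, hf⟩)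
    exact ⟨i, by simpa using (congrArg Subtype.val hi).symm⟩
  have hord : orderOf r = Nat.card F := by
    rw [hr, Subgroup.orderOf_coe, orderOf_eq_card_of_forall_mem_zpowers hr₀]
  obtain ⟨n, hn⟩ := IsPGroup.iff_card.1 (hP.to_subgroup F)
  have hn2 : 2 ≤ n := by
    by_contra h
    refine hsF (hC s hsS fun f hf => ?_)
    have hle : F ≤ center P := by
      rcases (show n = 0 ∨ n = 1 by omega) with rfl | rfl
      · rw [F.eq_bot_of_card_eq (by simpa using hn)]; exact bot_le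
      · exact Fusion.le_center_of_card_eq_prime hP F (by simpa using hn)
    exact (mem_center_iff.1 (hle hf) s).symm
  set m : ℕ := 2 ^ (n - 2) with hm
  have hN : orderOf r = 4 * m := by
    rw [hord, hn, hm]
    conv_lhs => rw [show n = 2 + (n - 2) by omega, pow_add]
    norm_num
  refine ⟨hord ▸ hN ▸ dvd_mul_right 4 m, ?_⟩
  set X₀ : P := r ^ (m : ℤ) with hX₀
  have hrF : r ∈ F := r₀.2
  have hpowiff : ∀ i j : ℤ, r ^ i = r ^ j ↔ (4 * m : ℤ) ∣ j - i := fun i j => by
    rw [zpow_eq_zpow_iff_modEq, hN]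
    push_cast
    exact Int.modEq_iff_dvd
  have hone : ∀ i : ℤ, r ^ i = 1 ↔ (4 * m : ℤ) ∣ i := fun i => by
    rw [← orderOf_dvd_iff_zpow_eq_one, hN]
    push_cast
    exact Iff.rfl
  have hm0 : (m : ℤ) ≠ 0 := by positivity
  -- the elements of order four of `F`
  have hfour : ∀ X ∈ F, orderOf X = 4 → X = X₀ ∨ X = X₀⁻¹ := fun X hX hX4 => by
    obtain ⟨i, rfl⟩ := hgen X hX
    have h4 : (4 * m : ℤ) ∣ i * 4 := by
      rw [← hone, zpow_mul]
      have := pow_orderOf_eq_one (r ^ i)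
      rw [hX4] at this
      exact_mod_cast this
    obtain ⟨k, hk⟩ : (m : ℤ) ∣ i := by
      rw [mul_comm i 4] at h4
      exact (mul_dvd_mul_iff_left (by norm_num : (4 : ℤ) ≠ 0)).1 h4
    have hodd : ¬ (2 : ℤ) ∣ k := by
      rintro ⟨l, rfl⟩
      have h2 : (r ^ i) ^ (2 : ℤ) = 1 := by
        rw [← zpow_mul, hone]; exact ⟨l, by rw [hk]; ring⟩
      have h2' := orderOf_dvd_iff_pow_eq_one.2 (by exact_mod_cast h2 : (r ^ i) ^ 2 = 1)
      rw [hX4] at h2'
      exact absurd (Nat.le_of_dvd two_pos h2') (by norm_num)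
    rcases (show k % 4 = 1 ∨ k % 4 = 3 by omega) with hk4 | hk4
    · left
      rw [hX₀, hpowiff]
      exact ⟨-(k / 4), by rw [hk]; linear_combination (-(m : ℤ)) * (Int.emod_add_mul_ediv k 4).symm + (-(m:ℤ)) * hk4⟩
    · right
      rw [hX₀, ← zpow_neg, hpowiff]
      exact ⟨-(k / 4) - 1, by rw [hk]; linear_combination (-(m : ℤ)) * (Int.emod_add_mul_ediv k 4).symm + (-(m:ℤ)) * hk4⟩
  have hX₀F : X₀ ∈ F := F.zpow_mem hrF _
  have hX₀4 : orderOf X₀ = 4 := by
    rw [hX₀, zpow_natCast, orderOf_pow' _ (by positivity), hN,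
      Nat.gcd_eq_right (dvd_mul_left m 4), Nat.mul_div_cancel _ (by positivity)]
  have hconj4 : ∀ g, g * X₀ * g⁻¹ = X₀ ∨ g * X₀ * g⁻¹ = X₀⁻¹ := fun g =>
    hfour _ (hFn.conj_mem _ hX₀F g) (by
      rw [← hX₀4]; exact orderOf_injective (MulAut.conj g).toMonoidHom (MulAut.conj g).injective X₀)
  suffices hCX : ∀ y ∈ S, y * X₀ * y⁻¹ = X₀ → y ∈ F by
    intro X hX hX4
    rcases hconj4 s with e | e
    · exact absurd (hCX s hsS e) hsF
    · rcases hfour X hX hX4 with rfl | rfl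
      · exact e
      · rw [← conj_inv, e]
  by_contra! hcon
  obtain ⟨y₀, hy₀S, hy₀X, hy₀F⟩ := hcon
  have hZn : (zpowers X₀).Normal := ⟨fun x hx g => by
    obtain ⟨i, rfl⟩ := hx
    show g * X₀ ^ i * g⁻¹ ∈ _
    rw [← conj_zpow]
    rcases hconj4 g with e | e <;> rw [e]
    · exact zpow_mem (mem_zpowers _) _
    · exact zpow_mem (inv_mem (mem_zpowers _)) _⟩
  have hlt : F < S ⊓ centralizer (zpowers X₀ : Set P) := by
    refine lt_of_le_of_ne (le_inf hFS fun f hf => mem_centralizer_iff.2 ?_) fun e => hy₀F ?_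
    · rintro x ⟨i, rfl⟩
      exact hcm _ (F.zpow_mem hX₀F i) f hf
    · rw [e]
      refine ⟨hy₀S, mem_centralizer_iff.2 ?_⟩
      rintro x ⟨i, rfl⟩
      exact (Commute.zpow_left (mul_inv_eq_iff_eq_mul.1 hy₀X).symm i).eq
  obtain ⟨L, hLn, hFL, hLC, hLc, -⟩ := Fusion.exists_normal_card_succ hP F _ hlt
  obtain ⟨y, hyL, hyF⟩ := SetLike.exists_of_lt (lt_of_le_of_ne hFL fun e => by
    rw [← e] at hLc
    have := Nat.card_pos (α := F)
    omega)
  have hi : (F.subgroupOf L).index = 2 := by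
    change F.relIndex L = 2
    have := Subgroup.card_mul_index (F.subgroupOf L)
    rw [Nat.card_congr (Subgroup.subgroupOfEquivOfLe hFL).toEquiv, hLc, mul_comm 2] at this
    exact Nat.eq_of_mul_eq_mul_left Nat.card_pos this
  have hyS : y ∈ S := (hLC hyL).1
  have hy2 : y * y ∈ F := Subgroup.mul_self_mem_of_index_two hi (⟨y, hyL⟩ : L)
  obtain ⟨a, ha⟩ := hgen _ (hFn.conj_mem r hrF y)
  have hconj : ∀ i : ℤ, y * r ^ i * y⁻¹ = r ^ (a * i) := fun i => by
    rw [← conj_zpow, ha, ← zpow_mul]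
  have ha1 : (4 * m : ℤ) ∣ (m : ℤ) * a - m := by
    rw [← hpowiff, mul_comm, ← hconj]
    exact (mul_inv_eq_iff_eq_mul.2 (mem_centralizer_iff.1 (hLC hyL).2 _ (mem_zpowers _)).symm).symm
  obtain ⟨k, hk⟩ : (4 : ℤ) ∣ a - 1 := by
    have : (m : ℤ) * 4 ∣ m * (a - 1) := by rwa [mul_sub, mul_one, mul_comm (m : ℤ) 4]
    exact (mul_dvd_mul_iff_left hm0).1 this
  have hne : ¬ (4 * m : ℤ) ∣ a - 1 := fun h => by
    refine hyF (hC y hyS fun f hf => ?_)
    obtain ⟨i, rfl⟩ := hgen f hf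
    have h1 : r ^ (a * i) = r ^ i := by
      rw [hpowiff, show i - a * i = -((a - 1) * i) by ring, dvd_neg]
      exact h.mul_right i
    exact (mul_inv_eq_iff_eq_mul.1 ((hconj i).trans h1)).symm
  have haa : (4 * m : ℤ) ∣ a * a - 1 := by
    rw [show a * a - 1 = a * (a * 1) - 1 by ring, ← hpowiff, ← hconj, ← hconj, zpow_one]
    have := hcm _ hy2 r hrF
    calc r = (r * (y * y)) * (y * y)⁻¹ := by group
      _ = ((y * y) * r) * (y * y)⁻¹ := by rw [this]
      _ = y * (y * r * y⁻¹) * y⁻¹ := by group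
  have h8 : (m : ℤ) ∣ 2 * k := by
    have h1 : (4 * m : ℤ) ∣ 4 * ((2 * k) * (2 * k + 1)) := by
      rwa [show 4 * ((2 * k) * (2 * k + 1)) = a * a - 1 by
        linear_combination (-(4 * k) - a - 1) * hk]
    have h2 := (mul_dvd_mul_iff_left (by norm_num : (4 : ℤ) ≠ 0)).1 h1
    refine Int.dvd_of_dvd_mul_left_of_gcd_one h2 ?_
    rw [hm]; push_cast
    refine Int.isCoprime_iff_gcd_eq_one.1 (IsCoprime.pow_left ?_)
    exact ⟨-k, 1, by ring⟩
  have hmk : ¬ (m : ℤ) ∣ k := fun h => hne (hk ▸ mul_dvd_mul_left 4 h)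
  obtain ⟨l, hl⟩ := h8
  have hlodd : ¬ (2 : ℤ) ∣ l := by
    rintro ⟨q, rfl⟩
    exact hmk ⟨q, by linarith⟩
  have hmev : (2 : ℤ) ∣ m := by
    have : (2 : ℤ) ∣ (m : ℤ) * l := ⟨k, hl.symm⟩
    exact (Int.prime_two.dvd_or_dvd this).resolve_right hlodd
  set z : P := r ^ (2 * m : ℤ) with hz
  have hzz : z * z = 1 := by
    rw [hz, ← zpow_add, hone]; exact ⟨1, by ring⟩
  have hryz : ∀ i : ℤ, y * r ^ i * y⁻¹ = r ^ (i + 2 * m * i) := fun i => by
    rw [hconj, hpowiff]
    obtain ⟨q, hq⟩ : (2 : ℤ) ∣ 1 - l := by omega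
    exact ⟨q * i, by linear_combination (-i) * hk + (-2 * i) * hl + (2 * m * i) * hq⟩
  obtain ⟨j, hj⟩ := hgen _ hy2
  obtain ⟨k', rfl⟩ : (2 : ℤ) ∣ j := by
    have h1 : r ^ (j + 2 * m * j) = r ^ j := by
      rw [← hryz, ← hj]; group
    rw [hpowiff, show j - (j + 2 * ↑m * j) = (2 * (m : ℤ)) * (-j) by ring,
      show (4 * m : ℤ) = 2 * m * 2 by ring] at h1
    exact dvd_neg.1 ((mul_dvd_mul_iff_left (by positivity)).1 h1)
  have hsq : ∀ i : ℤ, (r ^ i * y) * (r ^ i * y) = r ^ (2 * i + 2 * m * i + 2 * k') := fun i => by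
    calc (r ^ i * y) * (r ^ i * y) = r ^ i * (y * r ^ i * y⁻¹) * (y * y) := by group
      _ = _ := by
        rw [hryz, hj, ← zpow_add, ← zpow_add]
        exact congrArg (r ^ ·) (by ring)
  obtain ⟨i₁, hi₁⟩ : ∃ i₁ : ℤ, r ^ (2 * i₁ + 2 * m * i₁ + 2 * k') = 1 := by
    rcases Int.even_or_odd' k' with ⟨q, hq | hq⟩
    · exact ⟨-k', (hone _).2 ⟨-q, by rw [hq]; ring⟩⟩
    · obtain ⟨q', hq'⟩ := hmev
      exact ⟨m - k', (hone _).2 ⟨q' - q, by rw [hq, hq']; ring⟩⟩
  set v : P := r ^ i₁ * y with hv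
  have hvv : v * v = 1 := (hsq i₁).trans hi₁
  have hvL : v ∈ L := mul_mem (hFL (F.zpow_mem hrF _)) hyL
  have hvF : v ∉ F := fun h => hyF (by simpa [hv] using mul_mem (inv_mem (F.zpow_mem hrF i₁)) h)
  have hzF : z ∈ F := F.zpow_mem hrF _
  have hzc : z ∈ center P := by
    have : (zpowers z).Normal := ⟨fun x hx g => by
      obtain ⟨i, rfl⟩ := hx
      show g * z ^ i * g⁻¹ ∈ _
      rw [← conj_zpow]
      have hX : X₀ * X₀ = z := by rw [hX₀, hz, ← zpow_add, ← two_mul]
      have : g * z * g⁻¹ = z := by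
        rw [← hX, ← conj_mul]
        rcases hconj4 g with e | e <;> rw [e]
        rw [← mul_inv_rev, hX, inv_eq_of_mul_eq_one_right hzz]
      rw [this]; exact zpow_mem (mem_zpowers _) _⟩
    refine Fusion.le_center_of_card_eq_prime hP _ ?_ (mem_zpowers z)
    rw [Nat.card_zpowers]
    refine orderOf_eq_prime (by rw [pow_two, hzz]) fun e => ?_
    rw [hz, hone] at e
    have := Int.le_of_dvd (by positivity) e
    omega
  -- an involution of `L` outside `F` is `v` or `z * v`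
  have hinv : ∀ w ∈ L, w ∉ F → w * w = 1 → w = v ∨ w = z * v := fun w hw hwF hww => by
    have : w * v⁻¹ ∈ F := by
      have h := (Subgroup.mul_mem_iff_of_index_two hi (a := (⟨w, hw⟩ : L)) (b := ⟨v⁻¹, inv_mem hvL⟩)).2
      simp only [mem_subgroupOf, inv_mem_iff, hwF, hvF] at h
      exact h trivial
    obtain ⟨i, hwi⟩ := hgen _ this
    have hw' : w = r ^ (i + i₁) * y := by
      rw [zpow_add, ← hwi, mul_assoc (w * v⁻¹), ← hv]; group
    have h0 : (4 * m : ℤ) ∣ 2 * i + 2 * m * i := by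
      have h1 := (hone _).1 ((hsq (i + i₁)).symm.trans (hw' ▸ hww))
      have h2 := (hone _).1 hi₁
      rw [show 2 * i + 2 * (m : ℤ) * i = (2 * (i + i₁) + 2 * m * (i + i₁) + 2 * k') -
        (2 * i₁ + 2 * m * i₁ + 2 * k') by ring]
      exact h1.sub h2
    have h2m : (2 * m : ℤ) ∣ i * (1 + m) := by
      rw [show 2 * i + 2 * (m : ℤ) * i = 2 * (i * (1 + m)) by ring,
        show (4 * m : ℤ) = 2 * (2 * m) by ring] at h0
      exact (mul_dvd_mul_iff_left (by norm_num : (2 : ℤ) ≠ 0)).1 h0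
    have hi2 : (2 : ℤ) ∣ i := by
      rcases Int.prime_two.dvd_or_dvd ((dvd_mul_right 2 (m : ℤ)).trans h2m) with h | h
      · exact h
      · omega
    obtain ⟨i', rfl⟩ := hi2
    have hi' : (2 * m : ℤ) ∣ 2 * i' := by
      have : (2 * m : ℤ) ∣ 2 * i' * m := ⟨i', by ring⟩
      have := h2m.sub this
      rwa [show 2 * i' * (1 + (m : ℤ)) - 2 * i' * m = 2 * i' by ring] at this
    obtain ⟨q, hq⟩ := hi'
    have hwv : w = r ^ (2 * i') * v := by rw [← hwi]; group
    rcases Int.even_or_odd' q with ⟨q', hq' | hq'⟩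
    · left
      rw [hwv, (hone _).2 ⟨q', by rw [hq, hq']; ring⟩, one_mul]
    · right
      rw [hwv, hz]
      congr 1
      rw [hpowiff]
      exact ⟨-q', by rw [hq, hq']; ring⟩
  have hzv : z * v = v * z := (mem_center_iff.1 hzc v).symm
  let E : Subgroup P :=
    { carrier := {x | x = 1 ∨ x = z ∨ x = v ∨ x = z * v}
      one_mem' := Or.inl rfl
      mul_mem' := fun {p q} hp hq => by
        have e1 : z * (z * v) = v := by rw [← mul_assoc, hzz, one_mul]
        have e2 : v * (z * v) = z := by rw [← mul_assoc, ← hzv, mul_assoc, hvv, mul_one]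
        have e3 : z * v * z = v := by rw [hzv, mul_assoc, hzz, mul_one]
        have e4 : z * v * v = z := by rw [mul_assoc, hvv, mul_one]
        have e5 : z * v * (z * v) = 1 := by rw [mul_assoc, e2, hzz]
        rcases hp with rfl | rfl | rfl | rfl <;> rcases hq with rfl | rfl | rfl | rfl <;>
          simp only [Set.mem_ofPred_eq, one_mul, mul_one, hzz, hvv, e1, e2, e3, e4, e5, ← hzv,
            true_or, or_true]
      inv_mem' := fun {p} hp => by
        have e : (z * v)⁻¹ = z * v := by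
          rw [mul_inv_rev, inv_eq_of_mul_eq_one_right hzz, inv_eq_of_mul_eq_one_right hvv, hzv]
        rcases hp with rfl | rfl | rfl | rfl <;>
          simp only [Set.mem_ofPred_eq, inv_one, inv_eq_of_mul_eq_one_right hzz,
            inv_eq_of_mul_eq_one_right hvv, e, true_or, or_true] }
  have hEn : E.Normal := ⟨fun x hx g => by
    have hzg : g * z * g⁻¹ = z := by rw [mem_center_iff.1 hzc g, mul_inv_cancel_right]
    have hvg : g * v * g⁻¹ = v ∨ g * v * g⁻¹ = z * v :=
      hinv _ (hLn.conj_mem _ hvL g)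
        (fun h => hvF (by simpa [mul_assoc] using hFn.conj_mem _ h g⁻¹))
        (by rw [conj_mul, hvv]; group)
    rcases hx with rfl | rfl | rfl | rfl
    · left; group
    · right; left; exact hzg
    · rcases hvg with e | e
      · right; right; left; exact e
      · right; right; right; exact e
    · rw [← conj_mul, hzg]
      rcases hvg with e | e
      · right; right; right; rw [e]
      · right; right; left; rw [e, ← mul_assoc, hzz, one_mul]⟩
  have hsq1 : ∀ e ∈ E, e ^ 2 = 1 := by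
    rintro e (rfl | rfl | rfl | rfl)
    · exact one_pow 2
    · rw [pow_two, hzz]
    · rw [pow_two, hvv]
    · rw [(show Commute z v from hzv).mul_pow, pow_two, pow_two, hzz, hvv, one_mul]
  have hle := hno E (by
      rintro e (rfl | rfl | rfl | rfl)
      exacts [one_mem _, hFS hzF, (hLC hvL).1, mul_mem (hFS hzF) (hLC hvL).1])
    hEn (by
      refine ⟨⟨fun p q => Subtype.ext ?_⟩⟩
      show (p : P) * q = q * p
      have h := hsq1 _ (mul_mem p.2 q.2)
      have hp := hsq1 _ p.2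
      have hq := hsq1 _ q.2
      rw [pow_two] at h hp hq
      calc (p : P) * q = ((p : P) * (q : P))⁻¹ := (inv_eq_of_mul_eq_one_right h).symm
        _ = q * p := by
          rw [mul_inv_rev, inv_eq_of_mul_eq_one_right hp, inv_eq_of_mul_eq_one_right hq])
    hsq1
  have hv1 : v ≠ 1 := fun e => hvF (e ▸ one_mem _)
  have hz1 : z ≠ 1 := fun e => by
    rw [hz, hone] at e
    have := Int.le_of_dvd (by positivity) e
    omega
  have hsub : ({1, z, v} : Set P) ⊆ (E : Set P) := by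
    rintro w (rfl | rfl | rfl)
    exacts [Or.inl rfl, Or.inr (Or.inl rfl), Or.inr (Or.inr (Or.inl rfl))]
  have h3 := Set.ncard_le_ncard hsub (Set.toFinite _)
  rw [show (E : Set P).ncard = Nat.card E from rfl, Set.ncard_eq_three.2
    ⟨1, z, v, hz1.symm, hv1.symm, fun e => hvF (e ▸ hzF), rfl⟩] at h3
  omega

end Cfsg.Agent.FourRankOne
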